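import Mathlib

/-!
# A Euclidean descent

For every odd `Q > 1` and at most four integers `d i` with `Q ∣ 1 + ∑ d i ^ 2` there is `m`,
`0 < m`, `2 * m < Q`, with `m ^ 2 + ∑ (bmod (m * d i) Q) ^ 2 ≤ Q * m`.
(The lattice of the Lorentzian form `x y - |v| ^ 2`, `v ∈ ℤ ^ 4`, has only one class of
vectors of norm `1` with `x, y` not both even.)
-/

set_option autoImplicit false

namespace Cfsg.Agent.H774.K0

theorem four_sq_zero {e f g h : ℤ} (hz : e ^ 2 + f ^ 2 + g ^ 2 + h ^ 2 = 0) :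
    e = 0 ∧ f = 0 ∧ g = 0 ∧ h = 0 := by
  have h1 := sq_nonneg e
  have h2 := sq_nonneg f
  have h3 := sq_nonneg g
  have h4 := sq_nonneg h
  refine ⟨?_, ?_, ?_, ?_⟩ <;> (refine pow_eq_zero_iff (n := 2) (by norm_num) |>.1 ?_; linarith)

theorem four_mul_sq_bmod_le (v : ℤ) (x : ℕ) (hx : 0 < x) : 4 * (Int.bmod v x) ^ 2 ≤ (x : ℤ) ^ 2 := by
  have h1 := Int.le_bmod (x := v) (m := x) hx
  have h2 := Int.bmod_lt (x := v) (m := x) hx
  have h3 : -(x : ℤ) ≤ 2 * Int.bmod v x := by omega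
  have h4 : 2 * Int.bmod v x ≤ x := by omega
  nlinarith

theorem four_mul_sq_bmod_le_odd (v : ℤ) (x : ℕ) (hx : 0 < x) (ho : Odd x) :
    4 * (Int.bmod v x) ^ 2 ≤ ((x : ℤ) - 1) ^ 2 := by
  obtain ⟨k, hk⟩ := ho
  have h1 := Int.le_bmod (x := v) (m := x) hx
  have h2 := Int.bmod_lt (x := v) (m := x) hx
  have h3 : -(k : ℤ) ≤ Int.bmod v x := by omega
  have h4 : Int.bmod v x ≤ k := by omega
  have h5 : ((x : ℤ) - 1) = 2 * k := by subst hk; push_cast; ring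
  rw [h5]
  nlinarith

/-- The descent. -/
theorem descent : ∀ (x : ℕ) (y a b c d : ℤ), 1 ≤ x →
    (x : ℤ) * y = 1 + (a ^ 2 + b ^ 2 + c ^ 2 + d ^ 2) → ¬ (Even (x : ℤ) ∧ Even y) →
    ∃ (t s e f g h : ℤ), 0 ≤ t ∧ 0 ≤ s ∧ t * s = e ^ 2 + f ^ 2 + g ^ 2 + h ^ 2 ∧
      t * y + s * x - 2 * (e * a + f * b + g * c + h * d) = 1 := by
  intro x
  induction x using Nat.strong_induction_on with
  | _ x ih =>
  intro y a b c d hx hxy hev
  rcases Nat.lt_or_ge 1 x with hx2 | hx2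
  swap
  · have : x = 1 := by omega
    subst this
    exact ⟨0, 1, 0, 0, 0, 0, by norm_num, by norm_num, by norm_num, by norm_num⟩
  -- translation
  obtain ⟨ra, a', ha, ha', ha''⟩ : ∃ r a' : ℤ, a = a' + x * r ∧ 4 * a' ^ 2 ≤ (x : ℤ) ^ 2 ∧
      (Odd x → 4 * a' ^ 2 ≤ ((x : ℤ) - 1) ^ 2) :=
    ⟨Int.bdiv a x, Int.bmod a x, by have := Int.bmod_add_bdiv a x; linarith,
      four_mul_sq_bmod_le a x (by omega), four_mul_sq_bmod_le_odd a x (by omega)⟩
  obtain ⟨rb, b', hb, hb', hb''⟩ : ∃ r a' : ℤ, b = a' + x * r ∧ 4 * a' ^ 2 ≤ (x : ℤ) ^ 2 ∧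
      (Odd x → 4 * a' ^ 2 ≤ ((x : ℤ) - 1) ^ 2) :=
    ⟨Int.bdiv b x, Int.bmod b x, by have := Int.bmod_add_bdiv b x; linarith,
      four_mul_sq_bmod_le b x (by omega), four_mul_sq_bmod_le_odd b x (by omega)⟩
  obtain ⟨rc, c', hc, hc', hc''⟩ : ∃ r a' : ℤ, c = a' + x * r ∧ 4 * a' ^ 2 ≤ (x : ℤ) ^ 2 ∧
      (Odd x → 4 * a' ^ 2 ≤ ((x : ℤ) - 1) ^ 2) :=
    ⟨Int.bdiv c x, Int.bmod c x, by have := Int.bmod_add_bdiv c x; linarith,
      four_mul_sq_bmod_le c x (by omega), four_mul_sq_bmod_le_odd c x (by omega)⟩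
  obtain ⟨rd, d', hd, hd', hd''⟩ : ∃ r a' : ℤ, d = a' + x * r ∧ 4 * a' ^ 2 ≤ (x : ℤ) ^ 2 ∧
      (Odd x → 4 * a' ^ 2 ≤ ((x : ℤ) - 1) ^ 2) :=
    ⟨Int.bdiv d x, Int.bmod d x, by have := Int.bmod_add_bdiv d x; linarith,
      four_mul_sq_bmod_le d x (by omega), four_mul_sq_bmod_le_odd d x (by omega)⟩
  subst ha hb hc hd
  obtain ⟨y', hy'⟩ : ∃ y' : ℤ, y' = y - 2 * (a' * ra + b' * rb + c' * rc + d' * rd)
      - x * (ra ^ 2 + rb ^ 2 + rc ^ 2 + rd ^ 2) := ⟨_, rfl⟩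
  have hxy' : (x : ℤ) * y' = 1 + (a' ^ 2 + b' ^ 2 + c' ^ 2 + d' ^ 2) := by
    rw [hy']; linear_combination hxy
  have hxpos : (0 : ℤ) < x := by exact_mod_cast (by omega : 0 < x)
  have hx2' : (2 : ℤ) ≤ x := by exact_mod_cast hx2
  have hy0 : 0 < y' := by
    by_contra hcon
    push Not at hcon
    nlinarith [sq_nonneg a', sq_nonneg b', sq_nonneg c', sq_nonneg d']
  have hyx : y' ≤ x := by
    by_contra hcon
    push Not at hcon
    have : (x : ℤ) + 1 ≤ y' := hcon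
    nlinarith
  have hev' : ¬ (Even (x : ℤ) ∧ Even y') := by
    rintro ⟨h1, h2⟩
    apply hev
    refine ⟨h1, ?_⟩
    have : y = y' + 2 * (a' * ra + b' * rb + c' * rc + d' * rd)
      + x * (ra ^ 2 + rb ^ 2 + rc ^ 2 + rd ^ 2) := by rw [hy']; ring
    rw [this]
    exact (h2.add (even_two_mul _)).add (h1.mul_right _)
  have hlt : y' < x := by
    rcases lt_or_eq_of_le hyx with h | h
    · exact h
    exfalso
    have hodd : Odd x := by
      rcases Nat.even_or_odd x with h1 | h1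
      · exact absurd ⟨(Int.even_coe_nat x).2 h1, by rw [h]; exact (Int.even_coe_nat x).2 h1⟩ hev'
      · exact h1
    have h1 := ha'' hodd
    have h2 := hb'' hodd
    have h3 := hc'' hodd
    have h4 := hd'' hodd
    rw [h] at hxy'
    nlinarith
  obtain ⟨n, hn⟩ : ∃ n : ℕ, (n : ℤ) = y' := ⟨y'.toNat, Int.toNat_of_nonneg hy0.le⟩
  have hnx : n < x := by exact_mod_cast (hn ▸ hlt : (n : ℤ) < x)
  have hn1 : 1 ≤ n := by
    have : (0 : ℤ) < n := by rw [hn]; exact hy0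
    exact_mod_cast this
  obtain ⟨t, s, e, f, g, h, ht, hs, hts, hval⟩ := ih n hnx x a' b' c' d' hn1
    (by rw [hn]; linarith) (by rw [hn]; exact fun hh => hev' ⟨hh.2, hh.1⟩)
  rw [hn] at hval
  -- swap and translate back
  refine ⟨s, t + 2 * (e * ra + f * rb + g * rc + h * rd) + s * (ra ^ 2 + rb ^ 2 + rc ^ 2 + rd ^ 2),
    e + s * ra, f + s * rb, g + s * rc, h + s * rd, hs, ?_, ?_, ?_⟩
  · rcases hs.eq_or_lt with h0 | h0
    · have hz : e ^ 2 + f ^ 2 + g ^ 2 + h ^ 2 = 0 := by rw [← hts, ← h0]; ring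
      obtain ⟨he, hf, hg, hh⟩ := four_sq_zero hz
      rw [he, hf, hg, hh, ← h0]
      simpa using ht
    · have key : s * (t + 2 * (e * ra + f * rb + g * rc + h * rd)
          + s * (ra ^ 2 + rb ^ 2 + rc ^ 2 + rd ^ 2)) =
          (e + s * ra) ^ 2 + (f + s * rb) ^ 2 + (g + s * rc) ^ 2 + (h + s * rd) ^ 2 := by
        linear_combination hts
      have : 0 ≤ s * (t + 2 * (e * ra + f * rb + g * rc + h * rd)
          + s * (ra ^ 2 + rb ^ 2 + rc ^ 2 + rd ^ 2)) := by rw [key]; positivity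
      exact nonneg_of_mul_nonneg_right this h0
  · linear_combination hts
  · linear_combination hval - s * hy'

/-- Four coordinates. -/
theorem exists_mul4 (Q : ℕ) (hodd : Odd Q) (hQ : 1 < Q) (a b c d : ℤ)
    (h : (Q : ℤ) ∣ 1 + (a ^ 2 + b ^ 2 + c ^ 2 + d ^ 2)) :
    ∃ (m e f g k : ℤ), 0 < m ∧ m < Q ∧
      m ^ 2 + ((m * a - Q * e) ^ 2 + (m * b - Q * f) ^ 2 + (m * c - Q * g) ^ 2
        + (m * d - Q * k) ^ 2) = Q * m := by
  obtain ⟨A, hA⟩ := h
  have hQ0 : (0 : ℤ) < Q := by exact_mod_cast (by omega : 0 < Q)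
  obtain ⟨t, s, e, f, g, k, ht, hs, hts, hval⟩ := descent Q A a b c d (by omega) hA.symm
    (fun hh => by
      have := hh.1
      rw [Int.even_coe_nat] at this
      exact (Nat.not_even_iff_odd.2 hodd) this)
  have key : t ^ 2 + ((t * a - Q * e) ^ 2 + (t * b - Q * f) ^ 2 + (t * c - Q * g) ^ 2
        + (t * d - Q * k) ^ 2) = Q * t := by
    linear_combination t ^ 2 * hA + Q * t * hval - (Q : ℤ) ^ 2 * hts
  have ht0 : t ≠ 0 := by
    rintro rfl
    have hz : e ^ 2 + f ^ 2 + g ^ 2 + k ^ 2 = 0 := by rw [← hts]; ring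
    obtain ⟨he, hf, hg, hk⟩ := four_sq_zero hz
    rw [he, hf, hg, hk] at hval
    have h1 : s * (Q : ℤ) = 1 := by linarith
    have h2 : (Q : ℤ) ∣ 1 := ⟨s, by linarith⟩
    have h3 := Int.le_of_dvd one_pos h2
    have : (1 : ℤ) < Q := by exact_mod_cast hQ
    omega
  have htQ : t ≤ Q := by
    have h1 : t ^ 2 ≤ Q * t := by
      rw [← key]
      nlinarith [sq_nonneg (t * a - Q * e), sq_nonneg (t * b - Q * f), sq_nonneg (t * c - Q * g),
        sq_nonneg (t * d - Q * k)]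
    have h2 : 0 < t := lt_of_le_of_ne ht (Ne.symm ht0)
    nlinarith
  have htQ' : t ≠ Q := by
    rintro rfl
    have hz : ((Q : ℤ) * a - Q * e) ^ 2 + (Q * b - Q * f) ^ 2 + (Q * c - Q * g) ^ 2
        + (Q * d - Q * k) ^ 2 = 0 := by linarith
    have q2 : (0 : ℤ) < (Q : ℤ) ^ 2 := by positivity
    have hz' : (a - e) ^ 2 + (b - f) ^ 2 + (c - g) ^ 2 + (d - k) ^ 2 = 0 := by
      have : (Q : ℤ) ^ 2 * ((a - e) ^ 2 + (b - f) ^ 2 + (c - g) ^ 2 + (d - k) ^ 2) = 0 := by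
        linear_combination hz
      rcases mul_eq_zero.1 this with h | h
      · exact absurd h q2.ne'
      · exact h
    obtain ⟨he, hf, hg, hk⟩ := four_sq_zero hz'
    obtain rfl : a = e := by linarith
    obtain rfl : b = f := by linarith
    obtain rfl : c = g := by linarith
    obtain rfl : d = k := by linarith
    have h2 : (Q : ℤ) ∣ 1 := ⟨A - s, by linarith⟩
    have h3 := Int.le_of_dvd one_pos h2
    have : (1 : ℤ) < Q := by exact_mod_cast hQ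
    omega
  exact ⟨t, e, f, g, k, lt_of_le_of_ne ht (Ne.symm ht0), lt_of_le_of_ne htQ htQ', key⟩

/-- The absolutely least residue is the shortest representative. -/
theorem sq_bmod_le (x e : ℤ) (Q : ℕ) (hQ : 0 < Q) :
    (Int.bmod x Q) ^ 2 ≤ (x - Q * e) ^ 2 := by
  have h1 := Int.le_bmod (x := x) (m := Q) hQ
  have h2 := Int.bmod_lt (x := x) (m := Q) hQ
  have h3 := Int.bmod_add_bdiv x Q
  obtain ⟨b, hb⟩ : ∃ b, b = Int.bmod x Q := ⟨_, rfl⟩
  obtain ⟨q, hq⟩ : ∃ q, q = Int.bdiv x Q := ⟨_, rfl⟩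
  rw [← hb, ← hq] at h3
  rw [← hb] at h1 h2 ⊢
  have h4 : x - Q * e = b + Q * (q - e) := by rw [← h3]; ring
  rw [h4]
  obtain ⟨r, hr⟩ : ∃ r, r = q - e := ⟨_, rfl⟩
  rw [← hr]
  have hQ0 : (0 : ℤ) < Q := by exact_mod_cast hQ
  have h5 : -(Q : ℤ) ≤ 2 * b := by omega
  have h6 : 2 * b ≤ Q := by omega
  have h7 : 0 ≤ (Q : ℤ) * (r * (2 * b + Q * r)) := by
    apply mul_nonneg hQ0.le
    rcases lt_trichotomy r 0 with h | h | h
    · apply mul_nonneg_of_nonpos_of_nonpos h.le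
      have : (Q : ℤ) * r ≤ -Q := by nlinarith
      linarith
    · simp [h]
    · apply mul_nonneg h.le
      have : (Q : ℤ) ≤ Q * r := by nlinarith
      linarith
  nlinarith

/-- **Arithmetic lemma.**  For odd `Q > 1` and at most four integers `d i` with
`Q ∣ 1 + ∑ d i ^ 2` there is `0 < m`, `2 m < Q` with
`m ^ 2 + ∑ ⟨m d i⟩ ^ 2 ≤ Q m`. -/
theorem exists_mul {ι : Type*} (s : Finset ι) (hs : s.card ≤ 4) (d : ι → ℤ)
    (Q : ℕ) (hodd : Odd Q) (hQ : 1 < Q) (h : (Q : ℤ) ∣ 1 + ∑ i ∈ s, d i ^ 2) :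
    ∃ m : ℤ, 0 < m ∧ 2 * m < Q ∧
      m ^ 2 + ∑ i ∈ s, (Int.bmod (m * d i) Q) ^ 2 ≤ Q * m := by
  classical
  -- four integers
  obtain ⟨e⟩ : Nonempty (s ↪ Fin 4) := by
    apply Function.Embedding.nonempty_of_card_le
    simpa using hs
  set D : Fin 4 → ℤ := Function.extend e (fun i : s => d i) 0 with hD
  have hsum : ∀ g : ℤ → ℤ, g 0 = 0 → ∑ j, g (D j) = ∑ i ∈ s, g (d i) := by
    intro g hg
    rw [← Finset.sum_coe_sort s (fun i => g (d i))]
    have h1 : ∀ i : s, g (D (e i)) = g (d i) := by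
      intro i
      rw [hD, e.injective.extend_apply]
    rw [← Finset.sum_congr rfl (fun i _ => h1 i)]
    rw [← Finset.sum_map Finset.univ e (fun j => g (D j))]
    symm
    apply Finset.sum_subset (Finset.subset_univ _)
    intro j _ hj
    have : D j = 0 := by
      rw [hD, Function.extend_apply']
      · rfl
      · rintro ⟨i, rfl⟩
        exact hj (Finset.mem_map_of_mem e (Finset.mem_univ i))
    rw [this, hg]
  have hQ0 : (0 : ℤ) < Q := by exact_mod_cast (by omega : 0 < Q)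
  have h1 := hsum (fun x => x ^ 2) (by norm_num)
  rw [← h1] at h
  rw [Fin.sum_univ_four] at h
  obtain ⟨m, k1, k2, k3, k4, hm0, hmQ, hm⟩ := exists_mul4 Q hodd hQ _ _ _ _ h
  have hle : m ^ 2 + ∑ i ∈ s, (Int.bmod (m * d i) Q) ^ 2 ≤ Q * m := by
    rw [← hsum (fun x => (Int.bmod (m * x) Q) ^ 2) (by simp)]
    rw [Fin.sum_univ_four, ← hm]
    have a1 := sq_bmod_le (m * D 0) k1 Q (by omega)
    have a2 := sq_bmod_le (m * D 1) k2 Q (by omega)
    have a3 := sq_bmod_le (m * D 2) k3 Q (by omega)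
    have a4 := sq_bmod_le (m * D 3) k4 Q (by omega)
    linarith
  rcases lt_or_ge (2 * m) Q with h2 | h2
  · exact ⟨m, hm0, h2, hle⟩
  · refine ⟨Q - m, by linarith, ?_, ?_⟩
    · obtain ⟨r, hr⟩ := hodd
      have : (Q : ℤ) = 2 * r + 1 := by exact_mod_cast hr
      omega
    · have h3 : ∀ i ∈ s, (Int.bmod ((Q - m) * d i) Q) ^ 2 ≤ (Int.bmod (m * d i) Q) ^ 2 := by
        intro i _
        have h4 := sq_bmod_le ((Q - m) * d i) (d i - Int.bdiv (m * d i) Q) Q (by omega)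
        have h5 := Int.bmod_add_bdiv (m * d i) Q
        have h6 : ((Q - m) * d i - Q * (d i - Int.bdiv (m * d i) Q)) ^ 2
            = (Int.bmod (m * d i) Q) ^ 2 := by
          have : Int.bmod (m * d i) Q = m * d i - Q * Int.bdiv (m * d i) Q := by linarith
          rw [this]; ring
        rw [h6] at h4
        exact h4
      have h7 := Finset.sum_le_sum h3
      nlinarith

end Cfsg.Agent.H774.K0
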