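import Cfsg.Agent.H703.Lat.Basic
import Cfsg.Agent.H774.K0.Desc

/-!
# `k_0(B_0) ≥ 6` if `p` is odd and `p ^ 2` divides the group order
-/

set_option autoImplicit false
set_option linter.unusedSectionVars false

open Cfsg

namespace Cfsg.Agent.H774.K0

open Cfsg.Agent.Characters.Core Cfsg.Agent.Blocks Cfsg.Agent.Blocks.Basic Cfsg.Agent.Blocks.LocalRing
open Cfsg.Agent.H703.Lat

universe u

variable {G : Type u} [Group G] [Finite G]

/-- If an invariant `c` with `c χ ≡ m χ(1)` mod `p` has `∑ c² ≤ p c(1)`, `0 < m = c(1) < p`,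
then `p²` does not divide the group order (for odd `p`). -/
theorem no_equality {p : ℕ} {M : Ideal AlgInt} (hM : IsPModular p M)
    {B : Finset (IrrCharacter G)} (hB : Good M B)
    (h1B : (⟨fun _ => 1, isIrrCharacter_one⟩ : IrrCharacter G) ∈ B)
    (hG : p ^ 2 ∣ Nat.card G) {c : IrrCharacter G → ℤ} (hc : Inv c) {m : ℤ} (hm0 : 0 < m) (hmp : m < p)
    (hcm : ∀ χ ∈ B, (p : ℤ) ∣ c χ - m * charDegree (χ : G → ℂ))
    (hc1 : c ⟨fun _ => 1, isIrrCharacter_one⟩ = m)
    (hle : ∑ χ ∈ B, c χ ^ 2 ≤ p * m) : False := by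
  classical
  have hp := hM.1
  have hpG : p ^ 1 ∣ Nat.card G := (pow_dvd_pow p (by norm_num)).trans hG
  obtain ⟨F, hF⟩ := exists_F hM hB hpG hc (m := m) (fun χ hχ => by simpa using hcm χ hχ)
  rw [pow_one] at hF
  have h1 := lattice hp.ne_zero h1B hF
  rw [hc1, abs_of_pos hm0] at h1
  have heq : ∑ χ ∈ B, c χ ^ 2 = (p : ℤ) * m := le_antisymm hle h1
  have hF1 := lattice_eq hp.ne_zero h1B hF (by rw [heq, hc1]) 1
  have hone := F_one hF
  obtain ⟨r, hr⟩ := dvd_sum_sq hM hB hG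
  have hex : ∀ χ : IrrCharacter G, ∃ s : ℤ, χ ∈ B → m * charDegree (χ : G → ℂ) = c χ + p * s := by
    intro χ
    by_cases h : χ ∈ B
    · obtain ⟨s, hs⟩ := hcm χ h
      exact ⟨-s, fun _ => by linarith⟩
    · exact ⟨0, fun h' => absurd h' h⟩
  choose s hs using hex
  have e1 : m * ∑ χ ∈ B, c χ * charDegree (χ : G → ℂ) = ∑ χ ∈ B, c χ ^ 2 + p * ∑ χ ∈ B, c χ * s χ := by
    rw [Finset.mul_sum, Finset.mul_sum, ← Finset.sum_add_distrib]
    refine Finset.sum_congr rfl fun χ hχ => ?_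
    linear_combination (c χ) * hs χ hχ
  have e2 : m ^ 2 * ∑ χ ∈ B, (charDegree (χ : G → ℂ) : ℤ) ^ 2 =
      ∑ χ ∈ B, c χ ^ 2 + 2 * p * ∑ χ ∈ B, c χ * s χ + p ^ 2 * ∑ χ ∈ B, s χ ^ 2 := by
    rw [Finset.mul_sum, Finset.mul_sum, Finset.mul_sum, ← Finset.sum_add_distrib,
      ← Finset.sum_add_distrib]
    refine Finset.sum_congr rfl fun χ hχ => ?_
    linear_combination (m * charDegree (χ : G → ℂ) + c χ + p * s χ) * hs χ hχ
  have hpZ : (0 : ℤ) < p := by exact_mod_cast hp.pos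
  rw [hone, heq] at e1
  rw [hr, heq] at e2
  push_cast at e2
  set X := ∑ χ ∈ B, c χ * s χ with hX
  set Y := ∑ χ ∈ B, s χ ^ 2 with hY
  have e1' : m * F 1 = m + X := by
    have : (p : ℤ) * (m * F 1) = p * (m + X) := by linear_combination e1
    exact mul_left_cancel₀ hpZ.ne' this
  have e2' : m + 2 * X = p * (m ^ 2 * r - Y) := by
    have : (p : ℤ) * (m + 2 * X) = p * (p * (m ^ 2 * r - Y)) := by linear_combination -e2
    exact mul_left_cancel₀ hpZ.ne' this
  have e3 : m * (2 * F 1 - 1) = p * (m ^ 2 * r - Y) := by linear_combination 2 * e1' + e2'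
  have e4 : F 1 = 0 ∨ F 1 = 1 := by
    have : F 1 * (F 1 - 1) = 0 := by linear_combination hF1
    rcases mul_eq_zero.1 this with h | h
    · exact Or.inl h
    · exact Or.inr (by linarith)
  have e5 : (p : ℤ) ∣ m := by
    rcases e4 with h | h <;> rw [h] at e3
    · exact ⟨-(m ^ 2 * r - Y), by linarith⟩
    · exact ⟨(m ^ 2 * r - Y), by linarith⟩
  have := Int.le_of_dvd hm0 e5
  omega

/-- the characters of `B` of degree prime to `p` -/
noncomputable def hz (p : ℕ) (B : Finset (IrrCharacter G)) : Finset (IrrCharacter G) := by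
  classical exact B.filter fun χ : IrrCharacter G => ¬ p ∣ charDegree (χ : G → ℂ)

theorem mem_hz {p : ℕ} {B : Finset (IrrCharacter G)} {χ : IrrCharacter G} :
    χ ∈ hz p B ↔ χ ∈ B ∧ ¬ p ∣ charDegree (χ : G → ℂ) := by
  classical
  unfold hz
  rw [Finset.mem_filter]

theorem natCard_hz (p : ℕ) (M : Ideal AlgInt) :
    Nat.card {χ : IrrCharacter G // χ ∈ principalBlock M G ∧ ¬ p ∣ charDegree (χ : G → ℂ)} =
      (hz p (B0 M G)).card := by
  rw [← Nat.card_eq_finsetCard]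
  refine Nat.card_congr (Equiv.subtypeEquivRight fun χ => ?_)
  rw [mem_hz, mem_B0]

theorem charDegree_one : charDegree ((⟨fun _ => 1, isIrrCharacter_one⟩ : IrrCharacter G) : G → ℂ) = 1 := by
  have h := irr_one_eq_charDegree (G := G) (isIrrCharacter_one)
  exact_mod_cast h.symm

/-- **Main theorem.** -/
theorem six_le {p : ℕ} (hp2 : p ≠ 2) {M : Ideal AlgInt} (hM : IsPModular p M)
    {B : Finset (IrrCharacter G)} (hB : Good M B)
    (h1B : (⟨fun _ => 1, isIrrCharacter_one⟩ : IrrCharacter G) ∈ B)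
    (hG : p ^ 2 ∣ Nat.card G) : 6 ≤ (hz p B).card := by
  classical
  have hp := hM.1
  by_contra hcon
  push Not at hcon
  set one : IrrCharacter G := ⟨fun _ => 1, isIrrCharacter_one⟩ with hone
  have h1S : one ∈ hz p B := by
    rw [mem_hz]
    refine ⟨h1B, ?_⟩
    rw [charDegree_one, Nat.dvd_one]
    exact hp.ne_one
  have hcard : ((hz p B).erase one).card ≤ 4 := by
    rw [Finset.card_erase_of_mem h1S]
    omega
  have hodd : Odd p := hp.odd_of_ne_two hp2
  have hpG : p ^ 1 ∣ Nat.card G := (pow_dvd_pow p (by norm_num)).trans hG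
  -- splitting of sums over `B`
  have split : ∀ f : IrrCharacter G → ℤ, (∀ χ : IrrCharacter G, p ∣ charDegree (χ : G → ℂ) → (p : ℤ) ∣ f χ) →
      (p : ℤ) ∣ ∑ χ ∈ B, f χ - (f one + ∑ χ ∈ (hz p B).erase one, f χ) := by
    intro f hf
    rw [Finset.add_sum_erase _ _ h1S]
    have : ∑ χ ∈ B, f χ = ∑ χ ∈ hz p B, f χ + ∑ χ ∈ B.filter (fun χ : IrrCharacter G => ¬ ¬ p ∣ charDegree (χ : G → ℂ)), f χ := by
      unfold hz
      rw [Finset.sum_filter_add_sum_filter_not]
    rw [this, add_sub_cancel_left]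
    exact Finset.dvd_sum fun χ hχ => hf χ (not_not.1 (Finset.mem_filter.1 hχ).2)
  have split0 : ∀ f : IrrCharacter G → ℤ, (∀ χ : IrrCharacter G, p ∣ charDegree (χ : G → ℂ) → f χ = 0) →
      ∑ χ ∈ B, f χ = (f one + ∑ χ ∈ (hz p B).erase one, f χ) := by
    intro f hf
    rw [Finset.add_sum_erase _ _ h1S]
    have : ∑ χ ∈ B, f χ = ∑ χ ∈ hz p B, f χ + ∑ χ ∈ B.filter (fun χ : IrrCharacter G => ¬ ¬ p ∣ charDegree (χ : G → ℂ)), f χ := by
      unfold hz
      rw [Finset.sum_filter_add_sum_filter_not]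
    rw [this, Finset.sum_eq_zero (s := B.filter _), add_zero]
    exact fun χ hχ => hf _ (not_not.1 (Finset.mem_filter.1 hχ).2)
  have hdiv : (p : ℤ) ∣ 1 + ∑ χ ∈ (hz p B).erase one, (charDegree (χ : G → ℂ) : ℤ) ^ 2 := by
    have h1 := split (fun χ => (charDegree (χ : G → ℂ) : ℤ) ^ 2) (fun χ h =>
      (Int.natCast_dvd_natCast.2 h).trans (dvd_pow_self _ two_ne_zero))
    have h2 := dvd_sum_sq hM hB hpG
    rw [pow_one] at h2
    rw [charDegree_one] at h1
    have h3 := dvd_sub h2 h1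
    simpa using h3
  obtain ⟨m, hm0, hmp, hm⟩ := exists_mul ((hz p B).erase one) hcard
    (fun χ => (charDegree (χ : G → ℂ) : ℤ)) p hodd hp.one_lt hdiv
  have hb1 : Int.bmod (m * (1 : ℕ)) p = m := by
    rw [Nat.cast_one, mul_one]
    apply Int.bmod_eq_of_le_mul_two <;> omega
  refine no_equality hM hB h1B hG
    (c := fun χ => Int.bmod (m * charDegree (χ : G → ℂ)) p)
    (inv_deg (G := G) fun n => Int.bmod (m * n) p) hm0 (by omega) (fun χ _ => ?_) ?_ ?_
  · have := Int.bmod_add_bdiv (m * charDegree (χ : G → ℂ)) p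
    exact ⟨-Int.bdiv (m * charDegree (χ : G → ℂ)) p, by linarith⟩
  · show Int.bmod (m * charDegree (one : G → ℂ)) p = m
    rw [charDegree_one]
    exact hb1
  · rw [split0 (fun χ => Int.bmod (m * charDegree (χ : G → ℂ)) p ^ 2) (fun χ h => ?_)]
    · show Int.bmod (m * charDegree (one : G → ℂ)) p ^ 2 + _ ≤ _
      rw [charDegree_one, hb1]
      exact hm
    · have : (p : ℤ) ∣ m * charDegree (χ : G → ℂ) := (Int.natCast_dvd_natCast.2 h).mul_left m
      rw [Int.bmod_eq_zero_of_dvd this]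
      norm_num

/-- **Main theorem for the principal block.** -/
theorem six_le_card {p : ℕ} (hp2 : p ≠ 2) {M : Ideal AlgInt} (hM : IsPModular p M)
    (hG : p ^ 2 ∣ Nat.card G) :
    6 ≤ Nat.card {χ : IrrCharacter G // χ ∈ principalBlock M G ∧ ¬ p ∣ charDegree (χ : G → ℂ)} := by
  rw [natCard_hz]
  exact six_le hp2 hM (good_principal hM) (one_mem_B0 hM) hG

end Cfsg.Agent.H774.K0
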